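import Mathlib.AlgebraicGeometry.Morphisms.Separated
import Mathlib.AlgebraicGeometry.Morphisms.ClosedImmersion
import Mathlib.RingTheory.Filtration

/-!
# Extensionality of morphisms to separated schemes

* `hom_ext_of_reduced`: from the residue fields of a reduced scheme;
* `hom_ext_of_noetherian_local`: from the infinitesimal neighbourhoods of the closed point of a Noetherian local scheme.
-/

set_option autoImplicit false
universe u
open CategoryTheory CategoryTheory.Limits AlgebraicGeometry

namespace K478.RedExt

/-- Morphisms from a reduced scheme to a separated scheme are determined on residue fields. -/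
theorem hom_ext_of_reduced {S : Scheme.{u}} {W Z : Over S} [IsReduced W.left] [IsSeparated Z.hom] (a b : W ⟶ Z)
    (h : ∀ y : W.left, W.left.fromSpecResidueField y ≫ a.left = W.left.fromSpecResidueField y ≫ b.left) : a = b := by
  ext1
  exact ext_of_fromSpecResidueField_eq a.left b.left Z.hom Set.univ dense_univ (fun y _ => h y)
    ((Over.w a).trans (Over.w b).symm)

/-- Morphisms from a Noetherian local scheme to a separated scheme are determined on the infinitesimal neighbourhoods of
the closed point. -/
theorem hom_ext_of_noetherian_local {S : Scheme.{u}} {R : Type u} [CommRing R] [IsLocalRing R] [IsNoetherianRing R]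
    (g : Spec (CommRingCat.of R) ⟶ S) {Z : Over S} [IsSeparated Z.hom] (a b : Over.mk g ⟶ Z)
    (h : ∀ n : ℕ, Spec.map (CommRingCat.ofHom (Ideal.Quotient.mk (IsLocalRing.maximalIdeal R ^ n))) ≫ a.left =
      Spec.map (CommRingCat.ofHom (Ideal.Quotient.mk (IsLocalRing.maximalIdeal R ^ n))) ≫ b.left) : a = b := by
  have hcl : IsClosedImmersion (equalizer.ι a b).left := inferInstance
  have hinj : Function.Injective (equalizer.ι a b).left.appTop := by
    rw [injective_iff_map_eq_zero]
    intro c hc
    let c' : R := (Scheme.ΓSpecIso (CommRingCat.of R)).hom c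
    have hc' : c' = 0 := by
      have h0 : ∀ n : ℕ, c' ∈ IsLocalRing.maximalIdeal R ^ n := by
        intro n
        let f : Over.mk (Spec.map (CommRingCat.ofHom (Ideal.Quotient.mk (IsLocalRing.maximalIdeal R ^ n))) ≫ g) ⟶
          Over.mk g := Over.homMk (Spec.map (CommRingCat.ofHom (Ideal.Quotient.mk (IsLocalRing.maximalIdeal R ^ n))))
        have hf : f ≫ a = f ≫ b := by
          ext1
          exact h n
        have h1 : (equalizer.lift f hf).left ≫ (equalizer.ι a b).left = f.left := by
          rw [← Over.comp_left, equalizer.lift_ι]
        have h2 : f.left.appTop c = 0 := by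
          rw [← h1, Scheme.Hom.comp_appTop, ConcreteCategory.comp_apply, hc, map_zero]
        have h5 := ConcreteCategory.congr_hom (Scheme.ΓSpecIso_naturality
          (CommRingCat.ofHom (Ideal.Quotient.mk (IsLocalRing.maximalIdeal R ^ n)))) c
        change (Scheme.ΓSpecIso _).hom (f.left.appTop c) = Ideal.Quotient.mk (IsLocalRing.maximalIdeal R ^ n) c' at h5
        rw [h2, map_zero] at h5
        exact Ideal.Quotient.eq_zero_iff_mem.1 h5.symm
      have h1 := Ideal.iInf_pow_eq_bot_of_isLocalRing (IsLocalRing.maximalIdeal R) (Ideal.IsPrime.ne_top inferInstance)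
      have h2 : c' ∈ (⨅ i : ℕ, IsLocalRing.maximalIdeal R ^ i) := by
        rw [Ideal.mem_iInf]
        exact h0
      rw [h1] at h2
      exact h2
    have h3 := congrArg (Scheme.ΓSpecIso (CommRingCat.of R)).inv hc'
    rw [map_zero] at h3
    simpa [c'] using h3
  have hiso : IsIso (equalizer.ι a b).left :=
    IsClosedImmersion.isIso_of_injective_of_isAffine (Y := Spec (CommRingCat.of R)) hinj
  ext1
  rw [← cancel_epi (equalizer.ι a b).left, ← Over.comp_left, ← Over.comp_left, equalizer.condition]

end K478.RedExt
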